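import Mathlib

/-!
A group of order 240 of type `2·S₅` (one involution) inside `GL₄(𝔽₇)`, as a list of matrices.
-/

set_option autoImplicit false

namespace Cfsg.Agent.SpecA10

/-- product of two 4×4 matrices over `ZMod 7` stored as lists of 16 naturals -/
def mulL (a b : List ℕ) : List ℕ :=
  [(a.getD 0 0 * b.getD 0 0 + a.getD 1 0 * b.getD 4 0 + a.getD 2 0 * b.getD 8 0 + a.getD 3 0 * b.getD 12 0) % 7,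
    (a.getD 0 0 * b.getD 1 0 + a.getD 1 0 * b.getD 5 0 + a.getD 2 0 * b.getD 9 0 + a.getD 3 0 * b.getD 13 0) % 7,
    (a.getD 0 0 * b.getD 2 0 + a.getD 1 0 * b.getD 6 0 + a.getD 2 0 * b.getD 10 0 + a.getD 3 0 * b.getD 14 0) % 7,
    (a.getD 0 0 * b.getD 3 0 + a.getD 1 0 * b.getD 7 0 + a.getD 2 0 * b.getD 11 0 + a.getD 3 0 * b.getD 15 0) % 7,
    (a.getD 4 0 * b.getD 0 0 + a.getD 5 0 * b.getD 4 0 + a.getD 6 0 * b.getD 8 0 + a.getD 7 0 * b.getD 12 0) % 7,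
    (a.getD 4 0 * b.getD 1 0 + a.getD 5 0 * b.getD 5 0 + a.getD 6 0 * b.getD 9 0 + a.getD 7 0 * b.getD 13 0) % 7,
    (a.getD 4 0 * b.getD 2 0 + a.getD 5 0 * b.getD 6 0 + a.getD 6 0 * b.getD 10 0 + a.getD 7 0 * b.getD 14 0) % 7,
    (a.getD 4 0 * b.getD 3 0 + a.getD 5 0 * b.getD 7 0 + a.getD 6 0 * b.getD 11 0 + a.getD 7 0 * b.getD 15 0) % 7,
    (a.getD 8 0 * b.getD 0 0 + a.getD 9 0 * b.getD 4 0 + a.getD 10 0 * b.getD 8 0 + a.getD 11 0 * b.getD 12 0) % 7,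
    (a.getD 8 0 * b.getD 1 0 + a.getD 9 0 * b.getD 5 0 + a.getD 10 0 * b.getD 9 0 + a.getD 11 0 * b.getD 13 0) % 7,
    (a.getD 8 0 * b.getD 2 0 + a.getD 9 0 * b.getD 6 0 + a.getD 10 0 * b.getD 10 0 + a.getD 11 0 * b.getD 14 0) % 7,
    (a.getD 8 0 * b.getD 3 0 + a.getD 9 0 * b.getD 7 0 + a.getD 10 0 * b.getD 11 0 + a.getD 11 0 * b.getD 15 0) % 7,
    (a.getD 12 0 * b.getD 0 0 + a.getD 13 0 * b.getD 4 0 + a.getD 14 0 * b.getD 8 0 + a.getD 15 0 * b.getD 12 0) % 7,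
    (a.getD 12 0 * b.getD 1 0 + a.getD 13 0 * b.getD 5 0 + a.getD 14 0 * b.getD 9 0 + a.getD 15 0 * b.getD 13 0) % 7,
    (a.getD 12 0 * b.getD 2 0 + a.getD 13 0 * b.getD 6 0 + a.getD 14 0 * b.getD 10 0 + a.getD 15 0 * b.getD 14 0) % 7,
    (a.getD 12 0 * b.getD 3 0 + a.getD 13 0 * b.getD 7 0 + a.getD 14 0 * b.getD 11 0 + a.getD 15 0 * b.getD 15 0) % 7]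

/-- the identity -/
def oneL : List ℕ := [1, 0, 0, 0, 0, 1, 0, 0, 0, 0, 1, 0, 0, 0, 0, 1]

/-- minus the identity -/
def negOneL : List ℕ := [6, 0, 0, 0, 0, 6, 0, 0, 0, 0, 6, 0, 0, 0, 0, 6]

/-- generators -/
def gensL : List (List ℕ) :=
  [[0, 0, 6, 0, 0, 0, 0, 6, 1, 0, 0, 0, 0, 1, 0, 0],
    [0, 6, 0, 5, 1, 0, 2, 0, 3, 0, 6, 1, 0, 3, 6, 6],
    [4, 0, 1, 1, 0, 3, 1, 6, 6, 6, 4, 0, 6, 1, 0, 3]]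

/-- all elements -/
def elemsL : List (List ℕ) :=
  [[1, 0, 0, 0, 0, 1, 0, 0, 0, 0, 1, 0, 0, 0, 0, 1],
    [0, 0, 6, 0, 0, 0, 0, 6, 1, 0, 0, 0, 0, 1, 0, 0],
    [0, 6, 0, 5, 1, 0, 2, 0, 3, 0, 6, 1, 0, 3, 6, 6],
    [4, 0, 1, 1, 0, 3, 1, 6, 6, 6, 4, 0, 6, 1, 0, 3],
    [6, 0, 0, 0, 0, 6, 0, 0, 0, 0, 6, 0, 0, 0, 0, 6],
    [0, 5, 0, 1, 2, 0, 6, 0, 6, 1, 4, 0, 6, 6, 0, 4],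
    [1, 1, 3, 0, 1, 6, 0, 4, 4, 0, 1, 1, 0, 3, 1, 6],
    [4, 0, 1, 6, 0, 4, 1, 1, 0, 6, 0, 5, 1, 0, 2, 0],
    [6, 1, 0, 2, 6, 6, 5, 0, 4, 0, 0, 6, 0, 4, 1, 0],
    [3, 6, 5, 6, 6, 4, 6, 2, 4, 1, 1, 6, 1, 3, 6, 6],
    [2, 2, 6, 2, 2, 5, 2, 1, 5, 2, 6, 6, 2, 2, 6, 1],
    [0, 0, 1, 0, 0, 0, 0, 1, 6, 0, 0, 0, 0, 6, 0, 0],
    [0, 1, 0, 2, 6, 0, 5, 0, 4, 0, 1, 6, 0, 4, 1, 1],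
    [3, 0, 6, 6, 0, 4, 6, 1, 1, 1, 3, 0, 1, 6, 0, 4],
    [1, 6, 3, 0, 1, 1, 0, 3, 0, 5, 0, 1, 2, 0, 6, 0],
    [0, 2, 1, 6, 5, 0, 1, 1, 0, 6, 3, 0, 1, 0, 0, 3],
    [5, 6, 4, 1, 6, 2, 1, 3, 1, 6, 3, 6, 6, 6, 6, 4],
    [6, 2, 5, 5, 2, 1, 5, 2, 6, 6, 2, 5, 6, 1, 5, 5],
    [5, 3, 2, 6, 4, 5, 1, 2, 6, 1, 5, 6, 6, 6, 1, 5],
    [3, 6, 6, 1, 6, 4, 1, 1, 3, 6, 5, 6, 6, 4, 6, 2],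
    [3, 0, 0, 1, 0, 3, 6, 0, 6, 1, 0, 2, 6, 6, 5, 0],
    [0, 1, 1, 0, 1, 0, 0, 6, 4, 0, 2, 1, 0, 3, 1, 5],
    [6, 4, 3, 0, 4, 1, 0, 4, 6, 6, 6, 4, 6, 1, 4, 1],
    [3, 0, 6, 1, 0, 3, 6, 6, 0, 1, 0, 2, 6, 0, 5, 0],
    [2, 5, 1, 1, 5, 5, 1, 6, 2, 2, 6, 2, 2, 5, 2, 1],
    [1, 5, 0, 4, 5, 6, 4, 0, 3, 6, 4, 1, 6, 4, 1, 3],
    [1, 5, 1, 1, 2, 1, 6, 1, 2, 1, 2, 0, 6, 2, 0, 2],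
    [0, 2, 0, 6, 5, 0, 1, 0, 1, 6, 3, 0, 1, 1, 0, 3],
    [6, 6, 4, 0, 6, 1, 0, 3, 3, 0, 6, 6, 0, 4, 6, 1],
    [1, 6, 0, 5, 1, 1, 2, 0, 3, 0, 0, 1, 0, 3, 6, 0],
    [4, 1, 2, 1, 1, 3, 1, 5, 3, 6, 6, 1, 6, 4, 1, 1],
    [5, 5, 1, 5, 5, 2, 5, 6, 2, 5, 1, 1, 5, 5, 1, 6],
    [2, 6, 2, 4, 1, 2, 3, 2, 5, 6, 1, 6, 1, 5, 1, 1],
    [6, 1, 4, 1, 1, 1, 1, 3, 5, 6, 4, 1, 6, 2, 1, 3],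
    [0, 1, 4, 0, 6, 0, 0, 4, 0, 2, 1, 6, 5, 0, 1, 1],
    [1, 0, 0, 6, 0, 6, 6, 0, 2, 1, 3, 0, 1, 5, 0, 4],
    [3, 0, 1, 3, 0, 4, 3, 6, 6, 4, 1, 1, 4, 1, 1, 6],
    [6, 1, 4, 0, 6, 6, 0, 4, 0, 2, 0, 6, 5, 0, 1, 0],
    [1, 1, 5, 2, 1, 6, 2, 2, 6, 2, 5, 5, 2, 1, 5, 2],
    [0, 4, 6, 2, 4, 0, 2, 1, 4, 1, 4, 1, 1, 3, 1, 3],
    [1, 1, 6, 2, 6, 1, 5, 6, 2, 0, 5, 6, 0, 2, 1, 5],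
    [1, 6, 2, 1, 1, 1, 6, 2, 5, 3, 2, 6, 4, 5, 1, 2],
    [5, 4, 4, 2, 3, 5, 5, 4, 1, 0, 2, 3, 0, 1, 4, 2],
    [4, 5, 0, 0, 5, 3, 0, 0, 1, 3, 3, 2, 3, 6, 2, 4],
    [3, 2, 1, 2, 2, 4, 2, 6, 5, 2, 5, 6, 2, 2, 6, 2],
    [2, 6, 5, 0, 1, 2, 0, 5, 2, 5, 5, 1, 2, 2, 6, 5],
    [3, 0, 5, 6, 0, 4, 6, 2, 0, 1, 1, 0, 1, 0, 0, 6],
    [6, 1, 5, 5, 1, 1, 5, 2, 3, 6, 2, 4, 6, 4, 4, 5],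
    [4, 0, 0, 6, 0, 4, 1, 0, 1, 6, 0, 5, 1, 1, 2, 0],
    [1, 1, 1, 3, 1, 6, 3, 6, 6, 4, 3, 0, 4, 1, 0, 4],
    [5, 4, 6, 1, 4, 2, 1, 1, 4, 0, 0, 4, 0, 3, 4, 0],
    [1, 2, 1, 5, 5, 1, 2, 1, 0, 5, 0, 5, 2, 0, 2, 0],
    [2, 4, 5, 1, 3, 2, 6, 5, 1, 6, 2, 1, 1, 1, 6, 2],
    [4, 1, 1, 6, 1, 3, 6, 6, 4, 1, 2, 1, 1, 3, 1, 5],
    [5, 6, 2, 6, 6, 2, 6, 5, 6, 4, 6, 2, 4, 1, 2, 1],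
    [5, 6, 5, 0, 1, 5, 0, 5, 1, 5, 1, 1, 2, 1, 6, 1],
    [4, 1, 3, 6, 1, 3, 6, 4, 1, 5, 0, 4, 5, 6, 4, 0],
    [6, 2, 5, 6, 5, 6, 1, 5, 6, 6, 5, 0, 1, 6, 0, 5],
    [0, 2, 1, 2, 5, 0, 5, 1, 0, 2, 1, 5, 5, 0, 2, 1],
    [5, 2, 6, 6, 2, 2, 6, 1, 5, 5, 1, 5, 5, 2, 5, 6],
    [0, 5, 6, 1, 2, 0, 6, 6, 0, 1, 4, 0, 6, 0, 0, 4],
    [2, 1, 3, 6, 1, 5, 6, 4, 6, 1, 4, 1, 1, 1, 1, 3],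
    [1, 5, 2, 2, 5, 6, 2, 5, 1, 1, 5, 2, 1, 6, 2, 2],
    [0, 6, 6, 0, 6, 0, 0, 1, 3, 0, 5, 6, 0, 4, 6, 2],
    [1, 3, 4, 0, 3, 6, 0, 3, 1, 1, 1, 3, 1, 6, 3, 6],
    [6, 2, 0, 3, 2, 1, 3, 0, 4, 1, 3, 6, 1, 3, 6, 4],
    [6, 2, 6, 6, 5, 6, 1, 6, 5, 6, 5, 0, 1, 5, 0, 5],
    [2, 1, 6, 1, 6, 2, 6, 6, 2, 6, 2, 4, 1, 2, 3, 2],
    [4, 2, 2, 3, 5, 4, 4, 2, 2, 3, 6, 0, 4, 2, 0, 6],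
    [0, 0, 3, 2, 0, 0, 2, 4, 3, 2, 6, 4, 2, 4, 4, 1],
    [1, 2, 4, 5, 2, 6, 5, 3, 5, 6, 2, 5, 6, 2, 5, 5],
    [5, 0, 5, 1, 0, 5, 6, 5, 5, 1, 5, 2, 6, 5, 5, 5],
    [5, 6, 4, 0, 6, 2, 0, 3, 1, 0, 0, 6, 0, 6, 6, 0],
    [5, 5, 1, 6, 5, 2, 6, 6, 2, 4, 4, 1, 4, 5, 1, 3],
    [0, 6, 3, 0, 1, 0, 0, 3, 0, 5, 6, 1, 2, 0, 6, 6],
    [1, 3, 6, 6, 3, 6, 6, 1, 3, 0, 1, 3, 0, 4, 3, 6],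
    [6, 1, 2, 3, 1, 1, 3, 5, 0, 4, 3, 0, 4, 0, 0, 4],
    [1, 5, 6, 5, 2, 1, 2, 6, 0, 5, 0, 2, 2, 0, 5, 0],
    [5, 1, 5, 3, 6, 5, 4, 5, 2, 1, 6, 1, 6, 2, 6, 6],
    [1, 6, 3, 6, 6, 6, 6, 4, 2, 1, 3, 6, 1, 5, 6, 4],
    [2, 6, 2, 1, 6, 5, 1, 5, 6, 2, 1, 3, 2, 1, 3, 6],
    [5, 0, 2, 1, 0, 5, 6, 2, 1, 1, 6, 2, 6, 1, 5, 6],
    [3, 6, 3, 6, 6, 4, 6, 4, 0, 4, 6, 2, 4, 0, 2, 1],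
    [5, 6, 1, 5, 1, 5, 2, 1, 5, 0, 1, 1, 0, 5, 6, 1],
    [1, 2, 0, 5, 5, 1, 2, 0, 1, 5, 0, 5, 2, 1, 2, 0],
    [6, 6, 2, 5, 6, 1, 5, 5, 1, 5, 2, 2, 5, 6, 2, 5],
    [5, 3, 6, 1, 4, 5, 6, 6, 2, 6, 5, 6, 1, 2, 1, 5],
    [6, 4, 4, 5, 4, 1, 5, 3, 4, 5, 0, 0, 5, 3, 0, 0],
    [6, 0, 5, 4, 0, 6, 3, 5, 5, 4, 4, 2, 3, 5, 5, 4],
    [0, 3, 1, 6, 3, 0, 6, 6, 3, 5, 6, 6, 5, 4, 6, 1],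
    [6, 1, 5, 6, 6, 6, 1, 5, 2, 4, 5, 1, 3, 2, 6, 5],
    [2, 5, 2, 1, 5, 5, 1, 5, 3, 2, 1, 2, 2, 4, 2, 6],
    [1, 6, 0, 4, 6, 6, 4, 0, 6, 6, 4, 2, 6, 1, 2, 3],
    [5, 5, 1, 2, 2, 5, 5, 1, 1, 2, 3, 2, 5, 1, 5, 3],
    [5, 2, 2, 6, 5, 5, 1, 2, 2, 6, 5, 0, 1, 2, 0, 5],
    [2, 1, 2, 6, 6, 2, 1, 2, 6, 1, 2, 4, 6, 6, 3, 2],
    [5, 3, 3, 6, 3, 2, 6, 4, 5, 5, 1, 6, 5, 2, 6, 6],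
    [5, 3, 1, 0, 3, 2, 0, 6, 3, 6, 0, 3, 6, 4, 3, 0],
    [4, 1, 5, 3, 1, 3, 3, 2, 6, 1, 5, 5, 1, 1, 5, 2],
    [1, 5, 1, 2, 5, 6, 2, 6, 0, 1, 3, 2, 1, 0, 2, 4],
    [5, 1, 2, 0, 6, 5, 0, 2, 5, 2, 2, 6, 5, 5, 1, 2],
    [4, 0, 2, 1, 0, 3, 1, 5, 0, 6, 6, 0, 6, 0, 0, 1],
    [0, 2, 0, 2, 5, 0, 5, 0, 1, 2, 1, 5, 5, 1, 2, 1],
    [3, 0, 0, 3, 0, 4, 3, 0, 5, 4, 6, 1, 4, 2, 1, 1],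
    [3, 5, 0, 1, 2, 3, 6, 0, 0, 1, 0, 0, 6, 0, 0, 0],
    [5, 6, 1, 6, 1, 5, 1, 1, 5, 1, 5, 3, 6, 5, 4, 5],
    [6, 6, 6, 4, 6, 1, 4, 1, 1, 3, 4, 0, 3, 6, 0, 3],
    [2, 3, 3, 5, 4, 2, 2, 3, 6, 0, 5, 4, 0, 6, 3, 5],
    [3, 2, 0, 0, 2, 4, 0, 0, 6, 4, 4, 5, 4, 1, 5, 3],
    [4, 5, 6, 5, 5, 3, 5, 1, 2, 5, 2, 1, 5, 5, 1, 5],
    [1, 3, 1, 5, 3, 6, 5, 6, 5, 6, 2, 6, 6, 2, 6, 5],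
    [0, 3, 4, 0, 3, 0, 0, 3, 6, 1, 2, 3, 1, 1, 3, 5],
    [2, 0, 2, 0, 0, 2, 0, 2, 2, 0, 6, 0, 0, 2, 0, 6],
    [3, 6, 0, 3, 6, 4, 3, 0, 2, 4, 6, 0, 4, 5, 0, 1],
    [1, 1, 2, 0, 6, 1, 0, 2, 6, 2, 5, 6, 5, 6, 1, 5],
    [0, 3, 6, 6, 4, 0, 1, 6, 6, 6, 3, 2, 1, 6, 5, 3],
    [3, 6, 4, 1, 6, 4, 1, 3, 6, 2, 0, 3, 2, 1, 3, 0],
    [0, 5, 6, 2, 2, 0, 5, 6, 0, 2, 1, 2, 5, 0, 5, 1],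
    [5, 3, 0, 0, 3, 2, 0, 0, 2, 6, 5, 3, 6, 5, 3, 2],
    [2, 1, 5, 1, 1, 5, 1, 2, 1, 3, 1, 5, 3, 6, 5, 6],
    [2, 1, 2, 0, 6, 2, 0, 2, 6, 2, 6, 6, 5, 6, 1, 6],
    [6, 0, 0, 1, 0, 1, 1, 0, 5, 6, 4, 0, 6, 2, 0, 3],
    [4, 0, 6, 4, 0, 3, 4, 1, 1, 3, 6, 6, 3, 6, 6, 1],
    [0, 3, 1, 5, 3, 0, 5, 6, 3, 6, 3, 6, 6, 4, 6, 4],
    [6, 6, 1, 5, 1, 6, 2, 1, 5, 0, 2, 1, 0, 5, 6, 2],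
    [1, 6, 2, 2, 6, 6, 2, 5, 4, 1, 5, 3, 1, 3, 3, 2],
    [2, 3, 1, 6, 3, 5, 6, 6, 3, 0, 0, 3, 0, 4, 3, 0],
    [6, 5, 6, 2, 2, 6, 5, 6, 0, 2, 0, 2, 5, 0, 5, 0],
    [1, 5, 2, 1, 2, 1, 6, 2, 1, 1, 2, 0, 6, 1, 0, 2],
    [0, 5, 6, 5, 2, 0, 2, 6, 0, 5, 6, 2, 2, 0, 5, 6],
    [6, 1, 2, 4, 6, 6, 3, 2, 5, 6, 5, 1, 1, 5, 6, 5],
    [4, 5, 1, 3, 5, 3, 3, 6, 0, 0, 3, 2, 0, 0, 2, 4],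
    [5, 4, 1, 0, 3, 5, 0, 1, 4, 2, 2, 3, 5, 4, 4, 2],
    [2, 1, 5, 2, 1, 5, 2, 2, 1, 2, 4, 5, 2, 6, 5, 3],
    [0, 4, 6, 1, 4, 0, 1, 1, 4, 2, 1, 1, 2, 3, 1, 6],
    [1, 2, 2, 2, 5, 1, 5, 2, 3, 2, 6, 5, 5, 3, 2, 6],
    [2, 6, 2, 5, 1, 2, 2, 2, 5, 0, 5, 1, 0, 5, 6, 5],
    [2, 6, 5, 6, 1, 2, 1, 5, 2, 4, 1, 6, 3, 2, 1, 1],
    [3, 6, 2, 4, 6, 4, 4, 5, 1, 6, 2, 2, 6, 6, 2, 5],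
    [1, 0, 2, 4, 0, 6, 4, 5, 0, 3, 4, 1, 3, 0, 1, 3],
    [1, 2, 6, 2, 2, 6, 2, 1, 3, 2, 0, 6, 2, 4, 6, 0],
    [2, 0, 2, 6, 0, 2, 1, 2, 2, 6, 2, 5, 1, 2, 2, 2],
    [2, 1, 3, 0, 1, 5, 0, 4, 6, 0, 0, 1, 0, 1, 1, 0],
    [0, 2, 0, 5, 5, 0, 2, 0, 1, 5, 6, 5, 2, 1, 2, 6],
    [0, 1, 4, 2, 6, 0, 5, 4, 0, 0, 0, 6, 0, 0, 1, 0],
    [6, 4, 1, 1, 4, 1, 1, 6, 4, 0, 6, 4, 0, 3, 4, 1],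
    [3, 5, 5, 4, 2, 3, 3, 5, 5, 4, 1, 0, 3, 5, 0, 1],
    [0, 0, 4, 5, 0, 0, 5, 3, 4, 5, 1, 3, 5, 3, 3, 6],
    [6, 5, 3, 2, 5, 1, 2, 4, 2, 1, 5, 2, 1, 5, 2, 2],
    [1, 5, 6, 4, 5, 6, 4, 1, 2, 6, 2, 1, 6, 5, 1, 5],
    [4, 0, 0, 4, 0, 3, 4, 0, 2, 3, 1, 6, 3, 5, 6, 6],
    [2, 0, 5, 0, 0, 2, 0, 5, 6, 0, 5, 0, 0, 6, 0, 5],
    [0, 3, 4, 1, 3, 0, 1, 3, 6, 0, 5, 3, 0, 1, 3, 2],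
    [2, 0, 6, 6, 0, 2, 1, 6, 5, 6, 1, 5, 1, 5, 2, 1],
    [6, 6, 0, 4, 1, 6, 3, 0, 3, 2, 1, 1, 5, 3, 6, 1],
    [4, 1, 4, 1, 1, 3, 1, 3, 0, 3, 1, 5, 3, 0, 5, 6],
    [6, 2, 0, 2, 5, 6, 5, 0, 1, 2, 0, 5, 5, 1, 2, 0],
    [0, 0, 2, 4, 0, 0, 4, 5, 5, 3, 5, 1, 3, 2, 1, 2],
    [5, 1, 5, 6, 1, 2, 6, 2, 1, 5, 6, 4, 5, 6, 4, 1],
    [2, 0, 5, 6, 0, 2, 1, 5, 6, 6, 1, 5, 1, 6, 2, 1],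
    [5, 1, 2, 1, 6, 5, 6, 2, 5, 3, 6, 1, 4, 5, 6, 6],
    [4, 2, 1, 1, 2, 3, 1, 6, 0, 3, 1, 6, 3, 0, 6, 6],
    [1, 0, 2, 3, 0, 1, 4, 2, 2, 3, 3, 5, 4, 2, 2, 3],
    [2, 4, 1, 6, 3, 2, 1, 1, 5, 1, 2, 1, 6, 5, 6, 2],
    [1, 3, 3, 2, 3, 6, 2, 4, 3, 2, 0, 0, 2, 4, 0, 0],
    [5, 1, 2, 4, 1, 2, 4, 5, 5, 3, 0, 0, 3, 2, 0, 0],
    [6, 5, 4, 5, 2, 6, 2, 4, 5, 5, 1, 2, 2, 5, 5, 1],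
    [1, 1, 3, 5, 1, 6, 5, 4, 1, 6, 0, 4, 6, 6, 4, 0],
    [2, 3, 6, 0, 4, 2, 0, 6, 3, 5, 5, 4, 2, 3, 3, 5],
    [2, 0, 6, 0, 0, 2, 0, 6, 5, 0, 5, 0, 0, 5, 0, 5],
    [5, 2, 5, 6, 2, 2, 6, 2, 4, 5, 6, 5, 5, 3, 5, 1],
    [2, 2, 6, 1, 2, 5, 1, 1, 5, 3, 3, 6, 3, 2, 6, 4],
    [1, 6, 5, 3, 1, 1, 4, 5, 2, 1, 2, 6, 6, 2, 1, 2],
    [6, 4, 6, 2, 4, 1, 2, 1, 2, 1, 5, 1, 1, 5, 1, 2],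
    [2, 5, 5, 1, 2, 2, 6, 5, 5, 1, 2, 0, 6, 5, 0, 2],
    [4, 1, 0, 4, 1, 3, 4, 0, 5, 3, 1, 0, 3, 2, 0, 6],
    [1, 1, 0, 3, 6, 1, 4, 0, 4, 5, 6, 6, 2, 4, 1, 6],
    [0, 6, 4, 5, 6, 0, 5, 3, 1, 5, 1, 2, 5, 6, 2, 6],
    [5, 0, 2, 0, 0, 5, 0, 2, 1, 0, 2, 0, 0, 1, 0, 2],
    [5, 6, 5, 1, 1, 5, 6, 5, 1, 6, 5, 3, 1, 1, 4, 5],
    [2, 4, 4, 1, 4, 5, 1, 3, 2, 2, 6, 1, 2, 5, 1, 1],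
    [2, 4, 6, 0, 4, 5, 0, 1, 4, 1, 0, 4, 1, 3, 4, 0],
    [6, 5, 5, 5, 2, 6, 2, 5, 4, 5, 1, 2, 2, 4, 5, 1],
    [0, 6, 0, 0, 1, 0, 0, 0, 3, 5, 0, 1, 2, 3, 6, 0],
    [0, 4, 1, 0, 3, 0, 0, 1, 1, 0, 0, 3, 0, 1, 4, 0],
    [3, 2, 6, 4, 2, 4, 4, 1, 0, 0, 4, 5, 0, 0, 5, 3],
    [0, 5, 0, 5, 2, 0, 2, 0, 6, 5, 6, 2, 2, 6, 5, 6],
    [6, 1, 0, 3, 1, 1, 3, 0, 1, 1, 3, 5, 1, 6, 5, 4],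
    [2, 2, 6, 5, 5, 2, 2, 6, 6, 5, 4, 5, 2, 6, 2, 4],
    [1, 6, 5, 4, 6, 6, 4, 2, 0, 3, 4, 0, 3, 0, 0, 3],
    [0, 0, 0, 1, 0, 0, 6, 0, 0, 1, 4, 2, 6, 0, 5, 4],
    [5, 0, 1, 0, 0, 5, 0, 1, 2, 0, 2, 0, 0, 2, 0, 2],
    [0, 1, 0, 0, 6, 0, 0, 0, 4, 2, 0, 6, 5, 4, 1, 0],
    [3, 2, 0, 6, 2, 4, 6, 0, 6, 5, 1, 5, 5, 1, 5, 6],
    [4, 5, 6, 6, 2, 4, 1, 6, 6, 6, 0, 4, 1, 6, 3, 0],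
    [5, 1, 5, 2, 6, 5, 5, 5, 2, 0, 2, 6, 0, 2, 1, 2],
    [1, 1, 4, 5, 6, 1, 2, 4, 0, 3, 6, 6, 4, 0, 1, 6],
    [1, 2, 3, 2, 5, 1, 5, 3, 2, 2, 6, 5, 5, 2, 2, 6],
    [6, 6, 5, 0, 1, 6, 0, 5, 1, 5, 2, 1, 2, 1, 6, 2],
    [6, 2, 1, 3, 2, 1, 3, 6, 5, 1, 5, 6, 1, 2, 6, 2],
    [0, 2, 1, 5, 5, 0, 2, 1, 0, 5, 6, 5, 2, 0, 2, 6],
    [0, 4, 3, 0, 4, 0, 0, 4, 1, 6, 5, 4, 6, 6, 4, 2],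
    [5, 0, 5, 0, 0, 5, 0, 5, 5, 0, 1, 0, 0, 5, 0, 1],
    [6, 2, 1, 2, 5, 6, 5, 1, 0, 2, 0, 5, 5, 0, 2, 0],
    [2, 1, 6, 2, 6, 2, 5, 6, 2, 0, 6, 6, 0, 2, 1, 6],
    [6, 5, 0, 2, 2, 6, 5, 0, 6, 2, 0, 2, 5, 6, 5, 0],
    [6, 2, 6, 5, 2, 1, 5, 1, 0, 6, 4, 5, 6, 0, 5, 3],
    [4, 2, 0, 6, 5, 4, 1, 0, 0, 6, 0, 0, 1, 0, 0, 0],
    [0, 4, 1, 1, 3, 0, 6, 1, 1, 1, 4, 5, 6, 1, 2, 4],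
    [2, 4, 0, 0, 4, 5, 0, 0, 5, 1, 2, 4, 1, 2, 4, 5],
    [2, 4, 2, 6, 4, 5, 6, 5, 0, 0, 2, 4, 0, 0, 4, 5],
    [4, 5, 1, 2, 2, 4, 5, 1, 1, 2, 2, 2, 5, 1, 5, 2],
    [3, 5, 6, 6, 5, 4, 6, 1, 0, 4, 6, 1, 4, 0, 1, 1],
    [6, 0, 5, 0, 0, 6, 0, 5, 5, 0, 2, 0, 0, 5, 0, 2],
    [5, 6, 2, 5, 6, 2, 5, 5, 6, 5, 3, 2, 5, 1, 2, 4],
    [0, 4, 3, 6, 4, 0, 6, 4, 1, 0, 2, 4, 0, 6, 4, 5],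
    [4, 5, 0, 1, 5, 3, 1, 0, 1, 2, 6, 2, 2, 6, 2, 1],
    [6, 0, 5, 3, 0, 1, 3, 2, 0, 4, 3, 6, 4, 0, 6, 4],
    [1, 0, 0, 3, 0, 1, 4, 0, 0, 3, 6, 0, 4, 0, 0, 6],
    [0, 5, 0, 2, 2, 0, 5, 0, 6, 2, 1, 2, 5, 6, 5, 1],
    [1, 0, 2, 0, 0, 1, 0, 2, 2, 0, 5, 0, 0, 2, 0, 5],
    [0, 0, 0, 6, 0, 0, 1, 0, 0, 6, 3, 5, 1, 0, 2, 3],
    [6, 6, 3, 2, 1, 6, 5, 3, 0, 4, 1, 1, 3, 0, 6, 1],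
    [3, 2, 6, 5, 5, 3, 2, 6, 6, 5, 5, 5, 2, 6, 2, 5],
    [5, 0, 1, 1, 0, 5, 6, 1, 2, 1, 6, 2, 6, 2, 5, 6],
    [1, 5, 0, 5, 2, 1, 2, 0, 6, 5, 0, 2, 2, 6, 5, 0],
    [6, 4, 1, 3, 4, 1, 3, 6, 1, 3, 1, 3, 3, 6, 3, 6],
    [0, 0, 5, 3, 0, 0, 3, 2, 2, 4, 2, 6, 4, 5, 6, 5],
    [0, 1, 3, 2, 1, 0, 2, 4, 6, 2, 6, 5, 2, 1, 5, 1],
    [1, 3, 1, 3, 3, 6, 3, 6, 1, 3, 6, 4, 3, 6, 4, 1],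
    [6, 6, 4, 2, 6, 1, 2, 3, 6, 1, 0, 3, 1, 1, 3, 0],
    [6, 5, 1, 5, 5, 1, 5, 6, 4, 5, 0, 1, 5, 3, 1, 0],
    [2, 6, 5, 3, 6, 5, 3, 2, 2, 4, 0, 0, 4, 5, 0, 0],
    [3, 2, 1, 1, 5, 3, 6, 1, 1, 1, 0, 3, 6, 1, 4, 0],
    [6, 0, 0, 4, 0, 6, 3, 0, 0, 4, 1, 0, 3, 0, 0, 1],
    [0, 6, 3, 5, 1, 0, 2, 3, 0, 0, 0, 1, 0, 0, 6, 0],
    [0, 3, 6, 0, 4, 0, 0, 6, 6, 0, 0, 4, 0, 6, 3, 0],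
    [1, 3, 6, 4, 3, 6, 4, 1, 6, 4, 6, 4, 4, 1, 4, 1],
    [5, 3, 5, 1, 3, 2, 1, 2, 0, 0, 5, 3, 0, 0, 3, 2],
    [6, 4, 6, 4, 4, 1, 4, 1, 6, 4, 1, 3, 4, 1, 3, 6]]

/-- positions of the products generator * element -/
def idxL : List (List ℕ) :=
  [[1, 4, 7, 6, 11, 14, 13, 12, 20, 19, 24, 0, 23, 28, 27, 34, 33, 38, 41, 30,
    29, 46, 49, 2, 31, 56, 55, 37, 3, 48, 53, 59, 67, 61, 60, 72, 75, 5, 62, 82,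
    81, 52, 88, 87, 91, 94, 63, 98, 8, 64, 103, 102, 90, 9, 110, 66, 65, 114, 117, 10,
    74, 79, 85, 101, 106, 116, 120, 78, 132, 131, 133, 136, 121, 96, 15, 122, 111, 143, 105, 16,
    149, 124, 123, 153, 156, 17, 160, 108, 107, 161, 18, 109, 167, 166, 100, 172, 171, 175, 125, 177,
    174, 21, 127, 126, 183, 32, 22, 162, 164, 170, 119, 189, 191, 97, 128, 196, 25, 129, 165, 173,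
    26, 142, 145, 155, 159, 138, 150, 186, 198, 200, 95, 147, 146, 148, 212, 211, 141, 86, 47, 215,
    216, 195, 35, 203, 190, 36, 168, 185, 214, 158, 50, 220, 139, 204, 194, 39, 205, 210, 199, 40,
    163, 134, 42, 137, 43, 209, 188, 187, 68, 112, 44, 180, 179, 54, 45, 181, 233, 206, 213, 130,
    73, 113, 223, 207, 234, 69, 51, 230, 197, 201, 235, 202, 104, 140, 176, 71, 208, 93, 57, 80,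
    58, 76, 169, 219, 224, 225, 228, 192, 222, 232, 227, 182, 89, 151, 70, 217, 231, 152, 184, 77,
    178, 144, 115, 135, 83, 84, 239, 238, 99, 226, 92, 193, 118, 154, 236, 221, 218, 229, 157, 237],
   [2, 5, 8, 10, 12, 15, 17, 18, 0, 22, 25, 27, 29, 31, 32, 1, 36, 39, 42, 44,
    45, 47, 50, 52, 54, 3, 58, 60, 62, 4, 64, 65, 68, 70, 71, 73, 76, 78, 80, 6,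
    84, 86, 7, 82, 92, 95, 97, 99, 100, 72, 9, 105, 107, 109, 111, 112, 113, 115, 88, 119,
    11, 122, 123, 125, 126, 13, 129, 130, 14, 116, 134, 137, 139, 140, 141, 101, 16, 41, 146, 148,
    150, 151, 152, 154, 132, 158, 77, 157, 26, 79, 163, 165, 19, 169, 117, 20, 167, 145, 161, 21,
    179, 181, 182, 85, 184, 172, 142, 23, 155, 187, 87, 24, 192, 147, 195, 197, 175, 153, 199, 201,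
    202, 171, 189, 28, 205, 206, 30, 67, 208, 162, 127, 209, 40, 210, 33, 213, 156, 34, 212, 49,
    35, 160, 217, 93, 218, 46, 37, 56, 89, 131, 38, 221, 43, 94, 223, 215, 198, 110, 103, 178,
    74, 226, 66, 203, 227, 228, 128, 229, 124, 143, 232, 231, 51, 164, 200, 69, 211, 170, 190, 48,
    230, 75, 220, 120, 194, 118, 135, 53, 191, 61, 159, 219, 55, 133, 104, 225, 235, 57, 136, 185,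
    224, 59, 183, 90, 176, 168, 63, 236, 166, 149, 193, 204, 237, 186, 238, 108, 214, 106, 222, 188,
    102, 81, 144, 83, 174, 114, 98, 173, 91, 96, 239, 121, 177, 207, 196, 234, 233, 138, 216, 180],
   [3, 6, 9, 11, 13, 16, 0, 19, 21, 23, 26, 28, 30, 1, 33, 35, 37, 40, 43, 2,
    46, 48, 51, 53, 55, 57, 59, 61, 4, 63, 7, 66, 69, 5, 72, 74, 77, 79, 81, 83,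
    85, 87, 89, 90, 93, 96, 8, 71, 101, 102, 104, 106, 108, 12, 95, 10, 114, 116, 118, 120,
    121, 14, 124, 20, 127, 128, 24, 131, 92, 105, 135, 138, 15, 100, 142, 143, 144, 145, 147, 27,
    137, 17, 153, 155, 157, 159, 80, 18, 161, 162, 164, 166, 168, 170, 171, 173, 174, 176, 136, 178,
    180, 29, 22, 183, 150, 185, 186, 134, 41, 188, 172, 190, 193, 194, 25, 152, 198, 165, 200, 179,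
    31, 34, 203, 204, 38, 141, 207, 49, 56, 209, 119, 32, 167, 211, 88, 214, 47, 199, 195, 115,
    112, 98, 60, 36, 201, 219, 187, 67, 182, 86, 192, 177, 222, 39, 175, 224, 210, 225, 160, 62,
    149, 42, 212, 158, 52, 58, 44, 68, 230, 231, 197, 45, 54, 130, 73, 233, 113, 213, 228, 110,
    94, 154, 133, 50, 229, 78, 64, 132, 91, 235, 76, 140, 126, 169, 181, 125, 139, 109, 65, 163,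
    232, 221, 216, 75, 82, 227, 151, 103, 215, 117, 84, 70, 107, 99, 223, 196, 191, 208, 237, 122,
    206, 189, 217, 148, 123, 238, 184, 156, 220, 218, 146, 202, 129, 97, 226, 111, 239, 236, 205, 234]]

end Cfsg.Agent.SpecA10
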