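import Mathlib
import Cfsg.Agent.SpecA10.Data

/-!
The complement `C` of order 240 and the properties of its elements used for the spectrum of
`(V × W) ⋊ C`.
-/

set_option autoImplicit false

namespace Cfsg.Agent.SpecA10

abbrev M4 : Type := Matrix (Fin 4) (Fin 4) (ZMod 7)

/-- the matrix of a list of 16 entries -/
def toM (a : List ℕ) : M4 := Matrix.of fun i j => ((a.getD (4 * i.val + j.val) 0 : ℕ) : ZMod 7)

/-- entrywise sum -/
def addL (a b : List ℕ) : List ℕ := (List.range 16).map fun k => (a.getD k 0 + b.getD k 0) % 7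

/-- powers -/
def powL (a : List ℕ) : ℕ → List ℕ
  | 0 => oneL
  | n + 1 => mulL (powL a n) a

/-- sums of powers -/
def sumL (a : List ℕ) : ℕ → List ℕ
  | 0 => List.replicate 16 0
  | n + 1 => addL (sumL a n) (powL a n)

theorem toM_mul (a b : List ℕ) : toM (mulL a b) = toM a * toM b := by
  ext i j
  fin_cases i <;> fin_cases j <;>
    simp [toM, mulL, Matrix.mul_apply, Fin.sum_univ_four, ZMod.natCast_mod]

theorem toM_add (a b : List ℕ) : toM (addL a b) = toM a + toM b := by
  ext i j
  fin_cases i <;> fin_cases j <;> simp [toM, addL, List.range_succ, ZMod.natCast_mod]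

theorem toM_one : toM oneL = 1 := by decide +kernel

theorem toM_negOne : toM negOneL = -1 := by decide +kernel

theorem toM_zero : toM (List.replicate 16 0) = 0 := by decide +kernel

theorem toM_pow (a : List ℕ) (n : ℕ) : toM (powL a n) = toM a ^ n := by
  induction n with
  | zero => rw [pow_zero]; exact toM_one
  | succ n ih => rw [powL, toM_mul, ih, pow_succ]

theorem toM_sum (a : List ℕ) (n : ℕ) : toM (sumL a n) = ∑ i ∈ Finset.range n, toM a ^ i := by
  induction n with
  | zero => rw [Finset.range_zero, Finset.sum_empty]; exact toM_zero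
  | succ n ih => rw [sumL, toM_add, ih, toM_pow, Finset.sum_range_succ]

theorem closed_check : gensL.all (fun g => elemsL.all fun a => elemsL.contains (mulL g a)) = true := by
  decide +kernel

theorem one_check : elemsL.contains oneL = true := by decide +kernel

theorem class_check : elemsL.all (fun a => (a == oneL) ||
    (List.range 6).any (fun m => powL a (m + 1) == negOneL) ||
    ((powL a 3 == oneL) && (sumL a 3 == List.replicate 16 0)) ||
    ((powL a 5 == oneL) && (sumL a 5 == List.replicate 16 0))) = true := by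
  decide +kernel

/-- the group `C` -/
def C : Subgroup M4ˣ := Subgroup.closure {u | ∃ g ∈ gensL, toM g = (u : M4)}

/-- the matrix of an element of `C` -/
def mat : C →* M4 := (Units.coeHom M4).comp C.subtype

theorem mat_injective : Function.Injective mat :=
  fun _ _ h => Subtype.ext (Units.ext h)

instance : Finite C := Finite.of_injective _ mat_injective

theorem mem_elems (x : C) : ∃ a ∈ elemsL, toM a = mat x := by
  obtain ⟨u, hu⟩ := x
  have hu' : u ∈ Submonoid.closure {u : M4ˣ | ∃ g ∈ gensL, toM g = (u : M4)} := by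
    rw [← Subgroup.closure_toSubmonoid_of_finite]
    exact hu
  show ∃ a ∈ elemsL, toM a = (u : M4)
  clear hu
  induction hu' using Submonoid.closure_induction_left with
  | one => exact ⟨oneL, List.contains_iff_mem.mp one_check, toM_one⟩
  | mul_left v hv w _ ih =>
    obtain ⟨g, hg, hgv⟩ := hv
    obtain ⟨a, ha, hav⟩ := ih
    refine ⟨mulL g a, ?_, ?_⟩
    · exact List.contains_iff_mem.mp (List.all_eq_true.mp (List.all_eq_true.mp closed_check g hg) a ha)
    · rw [toM_mul, hgv, hav, Units.val_mul]

theorem cases_elem (x : C) : x = 1 ∨ (∃ m : ℕ, 1 ≤ m ∧ m ≤ 6 ∧ mat x ^ m = -1) ∨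
    (x ^ 3 = 1 ∧ ∑ i ∈ Finset.range 3, mat x ^ i = 0) ∨
    (x ^ 5 = 1 ∧ ∑ i ∈ Finset.range 5, mat x ^ i = 0) := by
  obtain ⟨a, ha, hax⟩ := mem_elems x
  have h := List.all_eq_true.mp class_check a ha
  simp only [Bool.or_eq_true, Bool.and_eq_true, beq_iff_eq, List.any_eq_true, List.mem_range] at h
  rcases h with ((h | ⟨m, hm, h⟩) | ⟨h1, h2⟩) | ⟨h1, h2⟩
  · left
    apply mat_injective
    rw [← hax, h, toM_one, map_one]
  · right; left
    exact ⟨m + 1, by omega, by omega, by rw [← hax, ← toM_pow, h, toM_negOne]⟩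
  · right; right; left
    refine ⟨mat_injective ?_, by rw [← hax, ← toM_sum, h2, toM_zero]⟩
    rw [map_pow, ← hax, ← toM_pow, h1, toM_one, map_one]
  · right; right; right
    refine ⟨mat_injective ?_, by rw [← hax, ← toM_sum, h2, toM_zero]⟩
    rw [map_pow, ← hax, ← toM_pow, h1, toM_one, map_one]

/-- a generator as an element of `C` -/
noncomputable def gen (g : List ℕ) (hg : g ∈ gensL) (n : ℕ) (hn : powL g (n + 1) = oneL) : C :=
  ⟨Units.ofPowEqOne (toM g) (n + 1) (by rw [← toM_pow, hn, toM_one]) (Nat.succ_ne_zero n),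
    Subgroup.subset_closure ⟨g, hg, rfl⟩⟩

theorem mat_gen (g : List ℕ) (hg : g ∈ gensL) (n : ℕ) (hn : powL g (n + 1) = oneL) :
    mat (gen g hg n hn) = toM g := rfl

/-- first generator (order 4) -/
noncomputable def g0 : C :=
  gen (gensL.getD 0 []) (by decide +kernel) 3 (by decide +kernel)

/-- second generator (order 3) -/
noncomputable def g1 : C :=
  gen (gensL.getD 1 []) (by decide +kernel) 2 (by decide +kernel)

/-- third generator (order 8) -/
noncomputable def g2 : C :=
  gen (gensL.getD 2 []) (by decide +kernel) 7 (by decide +kernel)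

theorem orderOf_of_list {x : C} {a : List ℕ} (hx : mat x = toM a) {n : ℕ} (hn0 : 0 < n)
    (h : ((List.range n).all fun m => (m == 0) || decide (toM (powL a m) ≠ 1)) = true)
    (hn : toM (powL a n) = 1) : orderOf x = n := by
  refine (orderOf_eq_iff hn0).mpr ⟨mat_injective ?_, fun m hm hm0 hx1 => ?_⟩
  · rw [map_pow, hx, ← toM_pow, hn, map_one]
  · have h' := List.all_eq_true.mp h m (List.mem_range.mpr hm)
    simp only [Bool.or_eq_true, beq_iff_eq, decide_eq_true_eq] at h'
    rcases h' with h' | h'
    · omega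
    · apply h'
      rw [toM_pow, ← hx, ← map_pow, hx1, map_one]

theorem orderOf_g2 : orderOf g2 = 8 :=
  orderOf_of_list (mat_gen _ _ _ _) (by norm_num) (by decide +kernel) (by decide +kernel)

theorem orderOf_g10 : orderOf (g1 * g0) = 10 :=
  orderOf_of_list (a := mulL (gensL.getD 1 []) (gensL.getD 0 []))
    (by rw [map_mul, toM_mul]; rfl) (by norm_num) (by decide +kernel) (by decide +kernel)

theorem orderOf_g12 : orderOf (g2 * g1) = 12 :=
  orderOf_of_list (a := mulL (gensL.getD 2 []) (gensL.getD 1 []))
    (by rw [map_mul, toM_mul]; rfl) (by norm_num) (by decide +kernel) (by decide +kernel)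

end Cfsg.Agent.SpecA10
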