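import Mathlib
import Cfsg.Agent.SpecA10.Complement

/-!
Arbitrarily large groups `(V × W) ⋊ C` with the spectrum of `A₁₀`.
-/

set_option autoImplicit false

namespace Cfsg.Agent.SpecA10

/-- the target set -/
def tgt : Set ℕ := {1, 2, 3, 4, 5, 6, 7, 8, 9, 10, 12, 15, 21}

/-- the `𝔽₃`-module: sign-odd functions on `Fin k × C` -/
def W (k : ℕ) : AddSubgroup (Fin k × C → ZMod 3) where
  carrier := {f | ∀ i c d, mat d = -mat c → f (i, d) = -f (i, c)}
  zero_mem' := by intro i c d _; simp
  add_mem' := by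
    intro f g hf hg i c d h
    simp [hf i c d h, hg i c d h, add_comm]
  neg_mem' := by
    intro f hf i c d h
    simp [hf i c d h]

abbrev V : Type := Fin 4 → ZMod 7

abbrev M (k : ℕ) : Type := V × W k

/-- right translation on `W` -/
def shift (k : ℕ) (x : C) (f : W k) : W k :=
  ⟨fun p => (f : Fin k × C → ZMod 3) (p.1, p.2 * x), fun i c d h => f.2 i (c * x) (d * x) (by
    rw [map_mul, map_mul, h, neg_mul])⟩

/-- the action on `M` -/
def act (k : ℕ) (x : C) : M k ≃+ M k where
  toFun m := (Matrix.mulVec (mat x) m.1, shift k x m.2)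
  invFun m := (Matrix.mulVec (mat x⁻¹) m.1, shift k x⁻¹ m.2)
  left_inv m := by
    refine Prod.ext ?_ (Subtype.ext (funext fun p => ?_))
    · show Matrix.mulVec (mat x⁻¹) (Matrix.mulVec (mat x) m.1) = m.1
      rw [Matrix.mulVec_mulVec, ← map_mul, inv_mul_cancel, map_one, Matrix.one_mulVec]
    · show (m.2 : Fin k × C → ZMod 3) (p.1, p.2 * x⁻¹ * x) = _
      rw [inv_mul_cancel_right]
  right_inv m := by
    refine Prod.ext ?_ (Subtype.ext (funext fun p => ?_))
    · show Matrix.mulVec (mat x) (Matrix.mulVec (mat x⁻¹) m.1) = m.1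
      rw [Matrix.mulVec_mulVec, ← map_mul, mul_inv_cancel, map_one, Matrix.one_mulVec]
    · show (m.2 : Fin k × C → ZMod 3) (p.1, p.2 * x * x⁻¹) = _
      rw [mul_inv_cancel_right]
  map_add' m n := by
    refine Prod.ext ?_ (Subtype.ext (funext fun p => rfl))
    exact Matrix.mulVec_add (mat x) m.1 n.1

/-- the action as automorphisms of the multiplicative group -/
def phi (k : ℕ) : C →* MulAut (Multiplicative (M k)) where
  toFun x := AddEquiv.toMultiplicative (act k x)
  map_one' := by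
    refine MulEquiv.ext fun m => Multiplicative.toAdd.injective ?_
    refine Prod.ext ?_ (Subtype.ext (funext fun p => ?_))
    · show Matrix.mulVec (mat 1) _ = _
      rw [map_one, Matrix.one_mulVec]; rfl
    · show (m.toAdd.2 : Fin k × C → ZMod 3) (p.1, p.2 * 1) = _
      rw [mul_one]; rfl
  map_mul' x y := by
    refine MulEquiv.ext fun m => Multiplicative.toAdd.injective ?_
    refine Prod.ext ?_ (Subtype.ext (funext fun p => ?_))
    · show Matrix.mulVec (mat (x * y)) _ = Matrix.mulVec (mat x) (Matrix.mulVec (mat y) _)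
      rw [Matrix.mulVec_mulVec, map_mul]
    · show (m.toAdd.2 : Fin k × C → ZMod 3) (p.1, p.2 * (x * y)) = (m.toAdd.2 : Fin k × C → ZMod 3) (p.1, p.2 * x * y)
      rw [mul_assoc]

/-- the group -/
abbrev H (k : ℕ) : Type := Multiplicative (M k) ⋊[phi k] C

/-- an element from its parts -/
def el (k : ℕ) (m : M k) (x : C) : H k := ⟨Multiplicative.ofAdd m, x⟩

variable {k : ℕ}

/-- `m + x m + ... + x^(n-1) m` -/
def S (x : C) (m : M k) (n : ℕ) : M k := ∑ i ∈ Finset.range n, act k (x ^ i) m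

theorem el_pow (m : M k) (x : C) (n : ℕ) : el k m x ^ n = el k (S x m n) (x ^ n) := by
  induction n with
  | zero => simp [S, el]; try rfl
  | succ n ih =>
    rw [pow_succ, ih]
    apply SemidirectProduct.ext
    · rw [SemidirectProduct.mul_left]
      change Multiplicative.ofAdd (S x m n + act k (x ^ n) m) = Multiplicative.ofAdd (S x m (n + 1))
      exact congrArg Multiplicative.ofAdd (Finset.sum_range_succ (fun i => act k (x ^ i) m) n).symm
    · exact (pow_succ x n).symm

theorem el_eq_one {m : M k} {x : C} : el k m x = 1 ↔ m = 0 ∧ x = 1 := by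
  constructor
  · intro h
    exact ⟨congrArg (fun e : H k => e.left.toAdd) h, congrArg SemidirectProduct.right h⟩
  · rintro ⟨rfl, rfl⟩; rfl

theorem S_fst (x : C) (m : M k) (n : ℕ) :
    (S x m n).1 = Matrix.mulVec (∑ i ∈ Finset.range n, mat x ^ i) m.1 := by
  rw [S, Prod.fst_sum, Matrix.sum_mulVec]
  exact Finset.sum_congr rfl fun i _ => by rw [← map_pow]; rfl

theorem S_snd (x : C) (m : M k) (n : ℕ) (p : Fin k × C) :
    ((S x m n).2 : Fin k × C → ZMod 3) p =
      ∑ i ∈ Finset.range n, (m.2 : Fin k × C → ZMod 3) (p.1, p.2 * x ^ i) := by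
  rw [S, Prod.snd_sum]
  induction n with
  | zero => simp
  | succ n ih => rw [Finset.sum_range_succ, Finset.sum_range_succ, AddSubgroup.coe_add, Pi.add_apply, ih]; rfl

theorem nsmul_seven (v : V) : 7 • v = 0 := by
  funext i; simp [Pi.smul_apply, show (7 : ZMod 7) = 0 from by decide]

theorem nsmul_three (w : W k) : 3 • w = 0 := by
  apply Subtype.ext; funext p
  simp [show (3 : ZMod 3) = 0 from by decide]

theorem el_one_pow (m : M k) (n : ℕ) : el k m 1 ^ n = el k (n • m) 1 := by
  rw [el_pow, one_pow]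
  congr 1
  have h : ∀ i : ℕ, act k ((1 : C) ^ i) m = m := fun i => by
    rw [one_pow]
    refine Prod.ext ?_ (Subtype.ext (funext fun p => ?_))
    · show Matrix.mulVec (mat 1) m.1 = m.1
      rw [map_one, Matrix.one_mulVec]
    · show (m.2 : Fin k × C → ZMod 3) (p.1, p.2 * 1) = _
      rw [mul_one]
  rw [S, Finset.sum_congr rfl (fun i _ => h i), Finset.sum_const, Finset.card_range]

theorem spectrum_sub (h : H k) : orderOf h ∈ tgt := by
  obtain ⟨m', x⟩ := h
  obtain ⟨m, rfl⟩ : ∃ m : M k, Multiplicative.ofAdd m = m' := ⟨m'.toAdd, rfl⟩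
  show orderOf (el k m x) ∈ tgt
  suffices hs : ∃ N ∈ ({2, 4, 6, 8, 9, 10, 12, 15, 21} : Finset ℕ), el k m x ^ N = 1 by
    obtain ⟨N, hN, hp⟩ := hs
    have hd := orderOf_dvd_of_pow_eq_one hp
    have key : ∀ N ∈ ({2, 4, 6, 8, 9, 10, 12, 15, 21} : Finset ℕ), ∀ d ∈ Nat.divisors N,
        d ∈ ({1, 2, 3, 4, 5, 6, 7, 8, 9, 10, 12, 15, 21} : Finset ℕ) := by decide +kernel
    have h0 : N ≠ 0 := by rintro rfl; simp at hN
    have := key N hN _ (Nat.mem_divisors.mpr ⟨hd, h0⟩)
    simpa [tgt] using this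
  rcases cases_elem x with rfl | ⟨j, hj1, hj6, hj⟩ | ⟨hx, hsum⟩ | ⟨hx, hsum⟩
  · refine ⟨21, by simp, ?_⟩
    rw [el_one_pow, el_eq_one]
    refine ⟨Prod.ext ?_ ?_, rfl⟩
    · show 21 • m.1 = 0
      rw [show 21 = 3 * 7 by norm_num, mul_smul, nsmul_seven, smul_zero]
    · show 21 • m.2 = 0
      rw [show 21 = 7 * 3 by norm_num, mul_smul, nsmul_three, smul_zero]
  · refine ⟨j + j, by interval_cases j <;> simp, ?_⟩
    rw [el_pow, el_eq_one]
    refine ⟨Prod.ext ?_ (Subtype.ext (funext fun p => ?_)), ?_⟩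
    · rw [S_fst, Finset.sum_range_add]
      simp only [pow_add, hj, neg_mul, one_mul, Finset.sum_neg_distrib, add_neg_cancel,
        Matrix.zero_mulVec]
      rfl
    · rw [S_snd, Finset.sum_range_add]
      have hneg : ∀ i, (m.2 : Fin k × C → ZMod 3) (p.1, p.2 * x ^ (j + i)) =
          -(m.2 : Fin k × C → ZMod 3) (p.1, p.2 * x ^ i) := fun i =>
        m.2.2 p.1 (p.2 * x ^ i) (p.2 * x ^ (j + i)) (by
          rw [map_mul, map_mul, map_pow, map_pow, pow_add, hj, neg_mul, one_mul, mul_neg])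
      simp [hneg, Finset.sum_neg_distrib]
    · apply mat_injective
      rw [map_pow, pow_add, hj, map_one, neg_mul_neg, one_mul]
  · refine ⟨9, by simp, ?_⟩
    rw [show 9 = 3 * 3 by norm_num, pow_mul, el_pow, hx, el_one_pow, el_eq_one]
    refine ⟨Prod.ext ?_ ?_, rfl⟩
    · show 3 • (S x m 3).1 = 0
      rw [S_fst, hsum, Matrix.zero_mulVec, smul_zero]
    · exact nsmul_three _
  · refine ⟨15, by simp, ?_⟩
    rw [show 15 = 5 * 3 by norm_num, pow_mul, el_pow, hx, el_one_pow, el_eq_one]
    refine ⟨Prod.ext ?_ ?_, rfl⟩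
    · show 3 • (S x m 5).1 = 0
      rw [S_fst, hsum, Matrix.zero_mulVec, smul_zero]
    · exact nsmul_three _

/-- the sign-odd delta function at `1`, scaled along `Fin k` -/
def delta (k : ℕ) (a : Fin k → ZMod 3) : W k :=
  ⟨fun p => a p.1 * ((if mat p.2 = 1 then 1 else 0) - (if mat p.2 = -1 then 1 else 0)), by
    intro i c d h
    have e1 : (mat d = 1) ↔ (mat c = -1) := by rw [h, neg_eq_iff_eq_neg]
    have e2 : (mat d = -1) ↔ (mat c = 1) := by rw [h, neg_inj]
    simp only [e1, e2]
    ring⟩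

theorem one_ne_neg_one : (1 : M4) ≠ -1 := by decide +kernel

theorem delta_one (a : Fin k → ZMod 3) (i : Fin k) :
    (delta k a : Fin k × C → ZMod 3) (i, 1) = a i := by
  show a i * _ = a i
  rw [map_one, if_pos rfl, if_neg one_ne_neg_one, sub_zero, mul_one]

theorem delta_ne (a : Fin k → ZMod 3) (i : Fin k) {c : C} (h1 : mat c ≠ 1) (h2 : mat c ≠ -1) :
    (delta k a : Fin k × C → ZMod 3) (i, c) = 0 := by
  show a i * _ = 0
  rw [if_neg h1, if_neg h2, sub_zero, mul_zero]

theorem card_H_lt (k : ℕ) : k < Nat.card (H k) := by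
  have hinj : Function.Injective (fun a : Fin k → ZMod 3 => (el k (0, delta k a) 1)) := by
    intro a b h
    funext i
    have h2 : delta k a = delta k b := congrArg (fun e : H k => e.left.toAdd.2) h
    rw [← delta_one a i, ← delta_one b i, h2]
  have : Finite (H k) := Finite.of_equiv _ SemidirectProduct.equivProd.symm
  calc k < 3 ^ k := Nat.lt_pow_self (by norm_num)
    _ = Nat.card (Fin k → ZMod 3) := by simp [Nat.card_eq_fintype_card]
    _ ≤ Nat.card (H k) := Nat.card_le_card_of_injective _ hinj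

theorem tgt_sub (k : ℕ) : tgt ⊆ Set.range (orderOf : H (k + 1) → ℕ) := by
  have : Finite (H (k + 1)) := Finite.of_equiv _ SemidirectProduct.equivProd.symm
  have hdiv : ∀ (N : ℕ) (h : H (k + 1)), orderOf h = N → ∀ d, d ∣ N → d ∈ Set.range (orderOf : H (k + 1) → ℕ) := by
    intro N h hN d hd
    refine ⟨h ^ (N / d), ?_⟩
    have hN0 : N ≠ 0 := hN ▸ (orderOf_pos h).ne'
    obtain ⟨e, rfl⟩ := hd
    obtain ⟨hd0, he0⟩ := mul_ne_zero_iff.mp hN0
    rw [Nat.mul_div_cancel_left _ (Nat.pos_of_ne_zero hd0), orderOf_pow_of_dvd he0 (hN ▸ dvd_mul_left e d),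
      hN, Nat.mul_div_cancel _ (Nat.pos_of_ne_zero he0)]
  have hright : ∀ x : C, orderOf (SemidirectProduct.inr x : H (k + 1)) = orderOf x := fun x =>
    orderOf_injective _ SemidirectProduct.inr_injective x
  let a : Fin (k + 1) → ZMod 3 := fun _ => 1
  have hS1 : ∀ (x : C) (q : ℕ), 2 ≤ q → q % 2 = 1 → orderOf x = q →
      ((S x ((0, delta (k + 1) a) : M (k + 1)) q).2 : Fin (k + 1) × C → ZMod 3) (0, 1) = 1 := by
    intro x q hq2 hodd hox
    rw [S_snd, Finset.sum_eq_single 0]
    · simp only [pow_zero, mul_one]; exact delta_one a 0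
    · intro i hi hi0
      simp only [one_mul]
      refine delta_ne a 0 ?_ ?_
      · intro h
        have : x ^ i = 1 := mat_injective (by rw [h, map_one])
        exact absurd (Nat.le_of_dvd (by omega) (hox ▸ orderOf_dvd_of_pow_eq_one this)) (by
          have := Finset.mem_range.mp hi; omega)
      · intro h
        have h2 : x ^ (2 * i) = 1 := mat_injective (by
          rw [pow_mul', pow_two, map_mul, h, map_one, neg_mul_neg, one_mul])
        have hdvd : q ∣ 2 * i := hox ▸ orderOf_dvd_of_pow_eq_one h2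
        have hcop : Nat.Coprime q 2 := by
          rw [Nat.coprime_comm, Nat.prime_two.coprime_iff_not_dvd]; omega
        exact absurd (Nat.le_of_dvd (by omega) (hcop.dvd_of_dvd_mul_left hdvd)) (by
          have := Finset.mem_range.mp hi; omega)
    · simp [show q ≠ 0 by omega]
  have h9 : ∃ h : H (k + 1), orderOf h = 9 := by
    set x := (g2 * g1) ^ 4 with hxd
    have hx : orderOf x = 3 := by
      rw [hxd, orderOf_pow_of_dvd (by norm_num) (by rw [orderOf_g12]; norm_num), orderOf_g12]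
    refine ⟨el (k + 1) (0, delta (k + 1) a) x, ?_⟩
    have hne : el (k + 1) (0, delta (k + 1) a) x ^ 3 ≠ 1 := by
      rw [el_pow, Ne, el_eq_one]
      rintro ⟨h, -⟩
      have := hS1 x 3 (by norm_num) rfl hx
      rw [h] at this
      exact absurd this (by simp)
    have hp : el (k + 1) (0, delta (k + 1) a) x ^ 9 = 1 := by
      rw [show 9 = 3 * 3 by norm_num, pow_mul, el_pow, show x ^ 3 = 1 from orderOf_dvd_iff_pow_eq_one.mp (dvd_of_eq hx), el_one_pow, el_eq_one]
      refine ⟨Prod.ext ?_ (nsmul_three _), rfl⟩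
      show 3 • (S x _ 3).1 = 0
      rw [S_fst, Matrix.mulVec_zero, smul_zero]
    have : Fact (Nat.Prime 3) := ⟨Nat.prime_three⟩
    exact orderOf_eq_prime_pow (p := 3) (n := 1) (by simpa using hne) (by norm_num; exact hp)
  have h15 : ∃ h : H (k + 1), orderOf h = 15 := by
    set x := (g1 * g0) ^ 2 with hxd
    have hx : orderOf x = 5 := by
      rw [hxd, orderOf_pow_of_dvd (by norm_num) (by rw [orderOf_g10]; norm_num), orderOf_g10]
    refine ⟨el (k + 1) (0, delta (k + 1) a) x, ?_⟩
    set h := el (k + 1) (0, delta (k + 1) a) x with hh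
    have hne : h ^ 5 ≠ 1 := by
      rw [hh, el_pow, Ne, el_eq_one]
      rintro ⟨h, -⟩
      have := hS1 x 5 (by norm_num) rfl hx
      rw [h] at this
      exact absurd this (by simp)
    have hne3 : h ^ 3 ≠ 1 := by
      rw [hh, el_pow, Ne, el_eq_one]
      rintro ⟨-, h⟩
      have := hx ▸ orderOf_dvd_of_pow_eq_one h
      norm_num at this
    have hp : h ^ 15 = 1 := by
      rw [hh, show 15 = 5 * 3 by norm_num, pow_mul, el_pow, show x ^ 5 = 1 from orderOf_dvd_iff_pow_eq_one.mp (dvd_of_eq hx), el_one_pow, el_eq_one]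
      refine ⟨Prod.ext ?_ (nsmul_three _), rfl⟩
      show 3 • (S x _ 5).1 = 0
      rw [S_fst, Matrix.mulVec_zero, smul_zero]
    have hd : orderOf h ∈ Nat.divisors 15 :=
      Nat.mem_divisors.mpr ⟨orderOf_dvd_of_pow_eq_one hp, by norm_num⟩
    have he : Nat.divisors 15 = {1, 3, 5, 15} := by decide
    rw [he] at hd
    have e := pow_orderOf_eq_one h
    simp only [Finset.mem_insert, Finset.mem_singleton] at hd
    rcases hd with hd | hd | hd | hd
    · rw [hd, pow_one] at e
      exact absurd (by rw [e, one_pow]) hne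
    · rw [hd] at e; exact absurd e hne3
    · rw [hd] at e; exact absurd e hne
    · exact hd
  have h21 : ∃ h : H (k + 1), orderOf h = 21 := by
    set h := el (k + 1) ((fun _ => 1 : V), delta (k + 1) a) 1 with hh
    refine ⟨h, ?_⟩
    have hne7 : h ^ 7 ≠ 1 := by
      rw [hh, el_one_pow, Ne, el_eq_one]
      rintro ⟨e, -⟩
      have e2 := congrArg (fun m : M (k + 1) => (m.2 : Fin (k + 1) × C → ZMod 3) (0, 1)) e
      simp only [Prod.smul_snd, Prod.snd_zero, AddSubgroup.coe_nsmul, AddSubgroup.coe_zero, Pi.smul_apply,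
        Pi.zero_apply, delta_one, a] at e2
      revert e2
      show (7 • (1 : ZMod 3) = 0) → False
      decide +kernel
    have hne3 : h ^ 3 ≠ 1 := by
      rw [hh, el_one_pow, Ne, el_eq_one]
      rintro ⟨e, -⟩
      have e2 := congrArg (fun m : M (k + 1) => m.1 0) e
      simp only [Prod.smul_fst, Prod.fst_zero, Pi.smul_apply, Pi.zero_apply] at e2
      revert e2
      show (3 • (1 : ZMod 7) = 0) → False
      decide +kernel
    have hp : h ^ 21 = 1 := by
      rw [hh, el_one_pow, el_eq_one]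
      refine ⟨Prod.ext ?_ ?_, rfl⟩
      · rw [Prod.smul_fst, show 21 = 3 * 7 by norm_num, mul_smul, nsmul_seven, smul_zero]; rfl
      · rw [Prod.smul_snd, show 21 = 7 * 3 by norm_num, mul_smul, nsmul_three, smul_zero]; rfl
    have hd : orderOf h ∈ Nat.divisors 21 :=
      Nat.mem_divisors.mpr ⟨orderOf_dvd_of_pow_eq_one hp, by norm_num⟩
    have he : Nat.divisors 21 = {1, 3, 7, 21} := by decide
    rw [he] at hd
    have e := pow_orderOf_eq_one h
    simp only [Finset.mem_insert, Finset.mem_singleton] at hd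
    rcases hd with hd | hd | hd | hd
    · rw [hd, pow_one] at e
      exact absurd (by rw [e, one_pow]) hne7
    · rw [hd] at e; exact absurd e hne3
    · rw [hd] at e; exact absurd e hne7
    · exact hd
  intro n hn
  obtain ⟨h9, e9⟩ := h9
  obtain ⟨h15, e15⟩ := h15
  obtain ⟨h21, e21⟩ := h21
  simp only [tgt, Set.mem_insert_iff, Set.mem_singleton_iff] at hn
  rcases hn with rfl | rfl | rfl | rfl | rfl | rfl | rfl | rfl | rfl | rfl | rfl | rfl | rfl
  · exact ⟨1, orderOf_one⟩
  · exact hdiv 8 _ ((hright g2).trans orderOf_g2) 2 (by norm_num)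
  · exact hdiv 9 _ e9 3 (by norm_num)
  · exact hdiv 8 _ ((hright g2).trans orderOf_g2) 4 (by norm_num)
  · exact hdiv 15 _ e15 5 (by norm_num)
  · exact hdiv 12 _ ((hright _).trans orderOf_g12) 6 (by norm_num)
  · exact hdiv 21 _ e21 7 (by norm_num)
  · exact ⟨_, (hright g2).trans orderOf_g2⟩
  · exact ⟨h9, e9⟩
  · exact ⟨_, (hright _).trans orderOf_g10⟩
  · exact ⟨_, (hright _).trans orderOf_g12⟩
  · exact ⟨h15, e15⟩
  · exact ⟨h21, e21⟩

theorem exists_large (N : ℕ) :
    ∃ (G : Type) (_ : Group G) (_ : Fintype G), N < Fintype.card G ∧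
      Set.range (orderOf : G → ℕ) = tgt := by
  have : Finite (H (N + 1)) := Finite.of_equiv _ SemidirectProduct.equivProd.symm
  have := Fintype.ofFinite (H (N + 1))
  refine ⟨H (N + 1), inferInstance, inferInstance, ?_, ?_⟩
  · rw [← Nat.card_eq_fintype_card]
    exact Nat.lt_of_succ_lt (card_H_lt (N + 1))
  · refine Set.Subset.antisymm ?_ (tgt_sub N)
    rintro _ ⟨h, rfl⟩
    exact spectrum_sub h

end Cfsg.Agent.SpecA10
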