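import Mathlib
import Cfsg.Agent.SpecA10.Main

/-!
The element orders of `A₁₀`.
-/

set_option autoImplicit false

namespace Cfsg.Agent.A10Orders

open Equiv

/-- check all compositions of `rem`, keeping the parity and lcm of the parts used so far -/
def chk : ℕ → ℕ → Bool → ℕ → Bool
  | 0, rem, par, l => rem == 0 && (par || [1, 2, 3, 4, 5, 6, 7, 8, 9, 10, 12, 15, 21].contains l)
  | fuel + 1, rem, par, l =>
    (rem == 0 && (par || [1, 2, 3, 4, 5, 6, 7, 8, 9, 10, 12, 15, 21].contains l)) ||
      (rem != 0 && (List.range rem).all fun i => chk fuel (rem - (i + 1)) (!par) (Nat.lcm l (i + 1)))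

theorem chk_ok : chk 10 10 false 1 = true := by decide +kernel

theorem chk_sound : ∀ (ps : List ℕ) (fuel rem : ℕ) (par : Bool) (l : ℕ), (∀ i ∈ ps, 0 < i) →
    ps.sum = rem → chk fuel rem par l = true → (if par then Odd ps.length else Even ps.length) →
    ps.foldl Nat.lcm l ∈ ({1, 2, 3, 4, 5, 6, 7, 8, 9, 10, 12, 15, 21} : Finset ℕ) := by
  intro ps
  induction ps with
  | nil =>
    intro fuel rem par l _ hsum h hpar
    cases par with
    | true => simp at hpar
    | false =>
      subst hsum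
      cases fuel <;> simp [chk] at h <;> simpa using h
  | cons a t ih =>
    intro fuel rem par l hpos hsum h hpar
    have ha : 0 < a := hpos a (by simp)
    simp only [List.sum_cons] at hsum
    have hr : rem ≠ 0 := by omega
    cases fuel with
    | zero => simp [chk, hr] at h
    | succ fuel =>
      simp [chk, hr, List.all_eq_true] at h
      have h1 := h (a - 1) (by omega)
      rw [show a - 1 + 1 = a by omega] at h1
      refine ih fuel _ _ (Nat.lcm l a) (fun i hi => hpos i (by simp [hi])) (by omega) h1 ?_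
      cases par <;> simp [Nat.even_add_one, Nat.odd_add_one] at hpar ⊢ <;> exact hpar

theorem parts_check (m : Multiset ℕ) (hpos : ∀ i ∈ m, 0 < i) (hsum : m.sum = 10)
    (heven : Even (Multiset.card m)) :
    m.lcm ∈ ({1, 2, 3, 4, 5, 6, 7, 8, 9, 10, 12, 15, 21} : Finset ℕ) := by
  revert hpos hsum heven
  refine Quotient.inductionOn m fun ps hpos hsum heven => ?_
  have h := chk_sound ps 10 10 false 1 hpos hsum chk_ok (by simpa using heven)
  have e : ∀ (l : List ℕ) (a : ℕ), l.foldl Nat.lcm a = Nat.lcm a (Multiset.lcm (l : Multiset ℕ)) := by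
    intro l
    induction l with
    | nil => intro a; simp
    | cons b t ih => intro a; rw [List.foldl_cons, ih, ← Multiset.cons_coe, Multiset.lcm_cons, Nat.lcm_assoc]; rfl
  rw [e, Nat.lcm_one_left] at h
  exact h

theorem orderOf_mem (x : alternatingGroup (Fin 10)) :
    orderOf x ∈ ({1, 2, 3, 4, 5, 6, 7, 8, 9, 10, 12, 15, 21} : Finset ℕ) := by
  have hs : Equiv.Perm.sign (x : Perm (Fin 10)) = 1 := Equiv.Perm.mem_alternatingGroup.mp x.2
  rw [Equiv.Perm.sign_of_cycleType, neg_one_pow_eq_one_iff_even (by decide)] at hs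
  have hsum : (x : Perm (Fin 10)).cycleType.sum = (x : Perm (Fin 10)).support.card :=
    Equiv.Perm.sum_cycleType _
  have hle : (x : Perm (Fin 10)).support.card ≤ 10 := (Finset.card_le_univ _).trans (by simp)
  let p : Nat.Partition 10 :=
    { parts := (x : Perm (Fin 10)).cycleType + Multiset.replicate (10 - (x : Perm (Fin 10)).support.card) 1
      parts_pos := by
        intro i hi
        rw [Multiset.mem_add] at hi
        rcases hi with hi | hi
        · exact lt_of_lt_of_le zero_lt_two (Equiv.Perm.two_le_of_mem_cycleType hi)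
        · rw [Multiset.eq_of_mem_replicate hi]; exact one_pos
      parts_sum := by
        rw [Multiset.sum_add, hsum, Multiset.sum_replicate, smul_eq_mul, mul_one]
        omega }
  have hp : Even (Multiset.card p.parts) := by
    show Even (Multiset.card (_ + _))
    rw [Multiset.card_add, Multiset.card_replicate]
    rw [Nat.even_add] at hs
    rw [hsum] at hs
    rw [Nat.even_add, Nat.even_sub hle, ← hs]
    simp only [show Even 10 from by decide, true_iff]
  have h := parts_check p.parts (fun i hi => p.parts_pos hi) p.parts_sum hp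
  have hl : p.parts.lcm = orderOf x := by
    show (_ + _ : Multiset ℕ).lcm = _
    rw [Multiset.lcm_add, Equiv.Perm.lcm_cycleType, Subgroup.orderOf_coe]
    have : (Multiset.replicate (10 - (x : Perm (Fin 10)).support.card) 1).lcm ∣ 1 :=
      Multiset.lcm_dvd.mpr fun b hb => by rw [Multiset.eq_of_mem_replicate hb]
    rw [Nat.dvd_one.mp this]
    exact Nat.lcm_one_right _
  rwa [hl] at h

/-- witness of a permutation of order `n` -/
def wit : ℕ → Perm (Fin 10)
  | 2 => swap 0 1 * swap 2 3
  | 3 => swap 0 1 * swap 1 2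
  | 4 => List.formPerm [0, 1, 2, 3] * swap 4 5
  | 5 => List.formPerm [0, 1, 2, 3, 4]
  | 6 => List.formPerm [0, 1, 2] * (swap 3 4 * swap 5 6)
  | 7 => List.formPerm [0, 1, 2, 3, 4, 5, 6]
  | 8 => List.formPerm [0, 1, 2, 3, 4, 5, 6, 7] * swap 8 9
  | 9 => List.formPerm [0, 1, 2, 3, 4, 5, 6, 7, 8]
  | 10 => List.formPerm [0, 1, 2, 3, 4] * (swap 5 6 * swap 7 8)
  | 12 => List.formPerm [0, 1, 2, 3] * List.formPerm [4, 5, 6] * swap 7 8
  | 15 => List.formPerm [0, 1, 2, 3, 4] * List.formPerm [5, 6, 7]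
  | 21 => List.formPerm [0, 1, 2, 3, 4, 5, 6] * List.formPerm [7, 8, 9]
  | _ => 1

theorem wit_check : ∀ n ∈ ({1, 2, 3, 4, 5, 6, 7, 8, 9, 10, 12, 15, 21} : Finset ℕ),
    Equiv.Perm.sign (wit n) = 1 ∧ wit n ^ n = 1 ∧ ∀ m ∈ Finset.Ico 1 n, wit n ^ m ≠ 1 := by
  decide +kernel

theorem range_eq : Set.range (orderOf : alternatingGroup (Fin 10) → ℕ) = SpecA10.tgt := by
  ext n
  constructor
  · rintro ⟨x, rfl⟩
    have := orderOf_mem x
    simpa [SpecA10.tgt] using this
  · intro hn
    have hn' : n ∈ ({1, 2, 3, 4, 5, 6, 7, 8, 9, 10, 12, 15, 21} : Finset ℕ) := by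
      simpa [SpecA10.tgt] using hn
    obtain ⟨h1, h2, h3⟩ := wit_check n hn'
    refine ⟨⟨wit n, Equiv.Perm.mem_alternatingGroup.mpr h1⟩, ?_⟩
    rw [← Subgroup.orderOf_coe]
    refine (orderOf_eq_iff ?_).mpr ⟨h2, fun m hm hm0 => h3 m (Finset.mem_Ico.mpr ⟨hm0, hm⟩)⟩
    rcases Nat.eq_zero_or_pos n with rfl | h
    · simp at hn'
    · exact h

end Cfsg.Agent.A10Orders
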